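import Mathlib
import Groth.Agent.S6333
import Groth.Agent.GeomConn5.Irred

/-!
Separably closed subfields of rational function fields cut out by a generic linear section.
-/

set_option autoImplicit false

universe u

open IntermediateField

namespace Groth.Agent.GeomLinSection

/-- `F` is separably closed in `E`. -/
def SepClosedIn (F E : Type u) [Field F] [Field E] [Algebra F E] : Prop :=
  ∀ a : E, IsSeparable F a → a ∈ Set.range (algebraMap F E)

theorem mem_of_separable_of_mem_perfectClosure {F E : Type u} [Field F] [Field E] [Algebra F E]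
    {a : E} (hs : IsSeparable F a) (hp : a ∈ perfectClosure F E) :
    a ∈ Set.range (algebraMap F E) := by
  have h1 := mem_perfectClosure_iff_natSepDegree_eq_one.mp hp
  have h2 : (minpoly F a).natDegree = 1 := by
    rw [← Polynomial.Separable.natSepDegree_eq_natDegree hs, h1]
  exact minpoly.natDegree_eq_one_iff.mp h2

theorem algebraic_mem_perfectClosure {F E : Type u} [Field F] [Field E] [Algebra F E]
    (h : SepClosedIn F E) {c : E} (hc : IsAlgebraic F c) : c ∈ perfectClosure F E := by
  let E' := algebraicClosure F E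
  haveI : Algebra.IsAlgebraic F E' := algebraicClosure.isAlgebraic F E
  have hbot : separableClosure F E' = ⊥ := by
    refine le_bot_iff.1 fun x hx => ?_
    obtain ⟨a, ha⟩ := h (x : E) (by
      have := mem_separableClosure_iff.1 hx
      rwa [IsSeparable, ← minpoly.algebraMap_eq (algebraMap E' E).injective x] at this)
    exact IntermediateField.mem_bot.2 ⟨a, Subtype.ext ha⟩
  haveI : IsPurelyInseparable F E' := separableClosure.eq_bot_iff.mp hbot
  have h1 : (⟨c, mem_algebraicClosure_iff.2 hc⟩ : E') ∈ perfectClosure F E' := by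
    rw [mem_perfectClosure_iff]
    exact IsPurelyInseparable.pow_mem F (ringExpChar F) _
  rw [mem_perfectClosure_iff] at h1 ⊢
  obtain ⟨n, a, ha⟩ := h1
  exact ⟨n, a, congrArg (algebraMap E' E) ha⟩

theorem sepClosedIn_of_algEquiv {F E E' : Type u} [Field F] [Field E] [Field E'] [Algebra F E]
    [Algebra F E'] (e : E ≃ₐ[F] E') (h : SepClosedIn F E) : SepClosedIn F E' := by
  intro a ha
  obtain ⟨r, hr⟩ := h (e.symm a) (by
    unfold IsSeparable at ha ⊢
    rwa [show minpoly F (e.symm a) = minpoly F a from minpoly.algEquiv_eq e.symm a])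
  exact ⟨r, by rw [← e.apply_symm_apply a, ← hr, e.commutes]⟩

section Rational

variable {k K Ω : Type u} [Field k] [Field K] [Field Ω] [Algebra k K] [Algebra k Ω] [Algebra K Ω]
  [IsScalarTower k K Ω] {σ : Type} (x : σ → Ω)

/-- A fraction presentation of elements of `K(x)`. -/
theorem exists_eq_div (hgen : IntermediateField.adjoin K (Set.range x) = ⊤) (z : Ω) :
    ∃ P Q : MvPolynomial σ K, z = MvPolynomial.aeval x P / MvPolynomial.aeval x Q :=
  (IntermediateField.mem_adjoin_range_iff K x z).mp (hgen ▸ trivial)

/-- If `k` is separably closed in `K` then `k(x)` is separably closed in `K(x)`. -/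
theorem sepClosedIn_adjoin (hx : AlgebraicIndependent K x)
    (hgen : IntermediateField.adjoin K (Set.range x) = ⊤) (h : SepClosedIn k K) :
    SepClosedIn (IntermediateField.adjoin k (Set.range x)) Ω := by
  classical
  let K₀ := IntermediateField.adjoin k (Set.range x)
  intro s hs
  refine mem_of_separable_of_mem_perfectClosure hs ?_
  -- algebraicity over `k[x]`
  letI : Algebra (MvPolynomial σ k) (MvPolynomial σ K) := MvPolynomial.algebraMvPolynomial
  letI : Algebra (MvPolynomial σ K) Ω := (MvPolynomial.aeval x).toRingHom.toAlgebra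
  letI : Algebra (MvPolynomial σ k) Ω := (MvPolynomial.aeval x).toRingHom.toAlgebra
  haveI : IsScalarTower (MvPolynomial σ k) (MvPolynomial σ K) Ω := IsScalarTower.of_algebraMap_eq fun p => by
    show MvPolynomial.aeval x p = MvPolynomial.aeval x (MvPolynomial.map (algebraMap k K) p)
    rw [MvPolynomial.aeval_map_algebraMap]
  let f : MvPolynomial σ k →ₐ[k] K₀ := MvPolynomial.aeval
    (fun i => (⟨x i, IntermediateField.subset_adjoin k _ ⟨i, rfl⟩⟩ : K₀))
  letI : Algebra (MvPolynomial σ k) K₀ := f.toRingHom.toAlgebra
  have hf : ∀ p, ((f p : K₀) : Ω) = MvPolynomial.aeval x p := fun p => by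
    show K₀.val (f p) = _
    rw [← AlgHom.comp_apply, MvPolynomial.comp_aeval]
    rfl
  haveI : IsScalarTower (MvPolynomial σ k) K₀ Ω :=
    IsScalarTower.of_algebraMap_eq fun p => (hf p).symm
  have hinjk : Function.Injective (algebraMap (MvPolynomial σ k) Ω) := by
    rw [IsScalarTower.algebraMap_eq (MvPolynomial σ k) (MvPolynomial σ K) Ω]
    intro p q hpq
    exact MvPolynomial.map_injective _ (algebraMap k K).injective (hx hpq)
  haveI : IsFractionRing (MvPolynomial σ k) K₀ := by
    haveI : FaithfulSMul (MvPolynomial σ k) K₀ := (faithfulSMul_iff_algebraMap_injective _ _).mpr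
      fun a b hab => hinjk (by rw [IsScalarTower.algebraMap_apply (MvPolynomial σ k) K₀ Ω, hab,
        ← IsScalarTower.algebraMap_apply])
    refine IsFractionRing.of_field _ _ fun z => ?_
    obtain ⟨P, Q, hz⟩ := (IntermediateField.mem_adjoin_range_iff k x (z : Ω)).mp z.2
    refine ⟨P, Q, Subtype.ext ?_⟩
    push_cast
    exact hz.trans (by rw [← hf, ← hf]; rfl)
  have halg : IsAlgebraic (MvPolynomial σ k) s :=
    (IsFractionRing.isAlgebraic_iff (MvPolynomial σ k) K₀ Ω).2 hs.isIntegral.isAlgebraic
  obtain ⟨d, hd0, hd⟩ := halg.exists_integral_multiple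
  haveI : FaithfulSMul (MvPolynomial σ K) Ω := (faithfulSMul_iff_algebraMap_injective _ _).mpr hx
  haveI : IsFractionRing (MvPolynomial σ K) Ω :=
    IsFractionRing.of_field _ _ fun z => by
      obtain ⟨P, Q, hz⟩ := exists_eq_div x hgen z
      exact ⟨P, Q, hz⟩
  obtain ⟨P, hP⟩ := IsIntegrallyClosed.isIntegral_iff.1 (hd.tower_top (A := MvPolynomial σ K))
  have hPint : IsIntegral (MvPolynomial σ k) P := by
    rw [← isIntegral_algebraMap_iff (R := MvPolynomial σ k) (A := MvPolynomial σ K) (B := Ω) hx, hP]
    exact hd
  have hcoef : ∀ n, P.coeff n ∈ perfectClosure k K := fun n =>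
    algebraic_mem_perfectClosure h (MvPolynomial.isIntegral_iff_isIntegral_coeff.mp hPint n).isAlgebraic
  have hC : ∀ c ∈ perfectClosure k K, algebraMap K Ω c ∈ perfectClosure K₀ Ω := by
    intro c hc
    rw [mem_perfectClosure_iff_pow_mem (ringExpChar k)] at hc
    haveI : ExpChar K₀ (ringExpChar k) := expChar_of_injective_algebraMap (algebraMap k K₀).injective _
    rw [mem_perfectClosure_iff_pow_mem (ringExpChar k)]
    obtain ⟨n, a, ha⟩ := hc
    exact ⟨n, algebraMap k K₀ a, by
      rw [← map_pow, ← ha, ← IsScalarTower.algebraMap_apply, ← IsScalarTower.algebraMap_apply]⟩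
  have hX : ∀ i, x i ∈ perfectClosure K₀ Ω := fun i =>
    (perfectClosure K₀ Ω).algebraMap_mem (⟨x i, IntermediateField.subset_adjoin k _ ⟨i, rfl⟩⟩ : K₀)
  have hPmem : MvPolynomial.aeval x P ∈ perfectClosure K₀ Ω := by
    rw [MvPolynomial.as_sum P, map_sum]
    refine sum_mem fun n _ => ?_
    rw [MvPolynomial.aeval_monomial]
    exact mul_mem (hC _ (hcoef n)) (prod_mem fun i _ => pow_mem (hX i) _)
  have hd' : algebraMap (MvPolynomial σ k) Ω d ≠ 0 := fun h0 => hd0 (hinjk (h0.trans (map_zero _).symm))
  have hdmem : algebraMap (MvPolynomial σ k) Ω d ∈ perfectClosure K₀ Ω := by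
    rw [IsScalarTower.algebraMap_apply (MvPolynomial σ k) K₀ Ω]
    exact (perfectClosure K₀ Ω).algebraMap_mem _
  have hs' : s = (algebraMap (MvPolynomial σ k) Ω d)⁻¹ * MvPolynomial.aeval x P := by
    rw [eq_inv_mul_iff_mul_eq₀ hd', ← Algebra.smul_def]
    exact hP.symm
  rw [hs']
  exact mul_mem (inv_mem hdmem) hPmem

/-- Translations of the variables. -/
theorem exists_translation (hx : AlgebraicIndependent K x)
    (hgen : IntermediateField.adjoin K (Set.range x) = ⊤) (t : σ → K) :
    ∃ τ : Ω ≃ₐ[K] Ω, ∀ i, τ (x i) = x i + algebraMap K Ω (t i) := by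
  letI : Algebra (MvPolynomial σ K) Ω := (MvPolynomial.aeval x).toRingHom.toAlgebra
  haveI : IsScalarTower K (MvPolynomial σ K) Ω := IsScalarTower.of_algebraMap_eq fun c =>
    ((MvPolynomial.aeval x).commutes c).symm
  haveI : FaithfulSMul (MvPolynomial σ K) Ω := (faithfulSMul_iff_algebraMap_injective _ _).mpr hx
  haveI : IsFractionRing (MvPolynomial σ K) Ω :=
    IsFractionRing.of_field _ _ fun z => by
      obtain ⟨P, Q, hz⟩ := exists_eq_div x hgen z
      exact ⟨P, Q, hz⟩
  let T : MvPolynomial σ K ≃ₐ[K] MvPolynomial σ K := AlgEquiv.ofAlgHom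
    (MvPolynomial.aeval fun i => MvPolynomial.X i + MvPolynomial.C (t i))
    (MvPolynomial.aeval fun i => MvPolynomial.X i - MvPolynomial.C (t i))
    (by ext i; simp) (by ext i; simp)
  refine ⟨IsFractionRing.algEquivOfAlgEquiv (K := Ω) (L := Ω) T, fun i => ?_⟩
  have h1 := IsFractionRing.algEquivOfAlgEquiv_algebraMap (K := Ω) (L := Ω) T (MvPolynomial.X i)
  rw [show algebraMap (MvPolynomial σ K) Ω (MvPolynomial.X i) = x i from MvPolynomial.aeval_X x i] at h1
  rw [h1]
  show MvPolynomial.aeval x (T (MvPolynomial.X i)) = _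
  simp [T]

end Rational

section Main

variable {k Ω : Type u} [Field k] [Field Ω] [Algebra k Ω]

/-- The key step: if a `k`-automorphism moves `k(x, ξ)` to `k(x, w)` and two translates of a separable
element generate the same field over `k(x, ξ, y)`, then the element is in `k(x, w)`. -/
theorem mem_of_mem_adjoin_transcendental {K₀ : IntermediateField k Ω}
    (hK₀ : SepClosedIn K₀ Ω) (M : IntermediateField K₀ Ω) (w : Ω) (hw : Transcendental M w) (s : Ω)
    (hs : IsSeparable (IntermediateField.adjoin K₀ {w}) s)
    (hsM : s ∈ IntermediateField.adjoin M {w}) :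
    s ∈ IntermediateField.adjoin K₀ {w} := by
  classical
  let F := IntermediateField.adjoin K₀ {w}
  obtain ⟨r, hr⟩ := mem_of_separable_of_mem_perfectClosure hs (by
    have hwK : Transcendental K₀ w := hw.restrictScalars (algebraMap K₀ M).injective
    letI : Algebra (Polynomial K₀) (Polynomial M) := (Polynomial.mapRingHom (algebraMap K₀ M)).toAlgebra
    letI : Algebra (Polynomial M) Ω := (Polynomial.aeval w).toRingHom.toAlgebra
    letI : Algebra (Polynomial K₀) Ω := (Polynomial.aeval w).toRingHom.toAlgebra
    haveI : IsScalarTower (Polynomial K₀) (Polynomial M) Ω := IsScalarTower.of_algebraMap_eq fun p =>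
      (Polynomial.aeval_map_algebraMap M w p).symm
    let f : Polynomial K₀ →ₐ[K₀] F := Polynomial.aeval (IntermediateField.AdjoinSimple.gen K₀ w)
    letI : Algebra (Polynomial K₀) F := f.toRingHom.toAlgebra
    have hf : ∀ p, ((f p : F) : Ω) = Polynomial.aeval w p := fun p =>
      (Polynomial.aeval_algHom_apply F.val (IntermediateField.AdjoinSimple.gen K₀ w) p).symm
    haveI : IsScalarTower (Polynomial K₀) F Ω := IsScalarTower.of_algebraMap_eq fun p => (hf p).symm
    have hinjk : Function.Injective (algebraMap (Polynomial K₀) Ω) := transcendental_iff_injective.mp hwK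
    haveI : IsFractionRing (Polynomial K₀) F := by
      haveI : FaithfulSMul (Polynomial K₀) F := (faithfulSMul_iff_algebraMap_injective _ _).mpr
        fun a b hab => hinjk (by rw [IsScalarTower.algebraMap_apply (Polynomial K₀) F Ω, hab,
          ← IsScalarTower.algebraMap_apply])
      refine IsFractionRing.of_field _ _ fun z => ?_
      obtain ⟨P, Q, hz⟩ := (IntermediateField.mem_adjoin_simple_iff K₀ (z : Ω)).mp z.2
      refine ⟨P, Q, Subtype.ext ?_⟩
      push_cast
      exact hz.trans (by rw [← hf, ← hf]; rfl)
    have halg : IsAlgebraic (Polynomial K₀) s :=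
      (IsFractionRing.isAlgebraic_iff (Polynomial K₀) F Ω).2 hs.isIntegral.isAlgebraic
    obtain ⟨d, hd0, hd⟩ := halg.exists_integral_multiple
    let Mw := IntermediateField.adjoin M {w}
    let g : Polynomial M →ₐ[M] Mw := Polynomial.aeval (IntermediateField.AdjoinSimple.gen M w)
    letI : Algebra (Polynomial M) Mw := g.toRingHom.toAlgebra
    have hg : ∀ p, ((g p : Mw) : Ω) = Polynomial.aeval w p := fun p =>
      (Polynomial.aeval_algHom_apply Mw.val (IntermediateField.AdjoinSimple.gen M w) p).symm
    haveI : IsScalarTower (Polynomial M) Mw Ω := IsScalarTower.of_algebraMap_eq fun p => (hg p).symm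
    have hinjM : Function.Injective (algebraMap (Polynomial M) Ω) := transcendental_iff_injective.mp hw
    haveI : IsFractionRing (Polynomial M) Mw := by
      haveI : FaithfulSMul (Polynomial M) Mw := (faithfulSMul_iff_algebraMap_injective _ _).mpr
        fun a b hab => hinjM (by rw [IsScalarTower.algebraMap_apply (Polynomial M) Mw Ω, hab,
          ← IsScalarTower.algebraMap_apply])
      refine IsFractionRing.of_field _ _ fun z => ?_
      obtain ⟨P, Q, hz⟩ := (IntermediateField.mem_adjoin_simple_iff M (z : Ω)).mp z.2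
      refine ⟨P, Q, Subtype.ext ?_⟩
      push_cast
      exact hz.trans (by rw [← hg, ← hg]; rfl)
    have hdmem : d • s ∈ Mw := by
      rw [Algebra.smul_def, IsScalarTower.algebraMap_apply (Polynomial K₀) (Polynomial M) Ω,
        IsScalarTower.algebraMap_apply (Polynomial M) Mw Ω]
      exact mul_mem (SetLike.coe_mem _) hsM
    have hint : IsIntegral (Polynomial M) (⟨d • s, hdmem⟩ : Mw) :=
      (isIntegral_algebraMap_iff (R := Polynomial M) (A := Mw) (B := Ω) (algebraMap Mw Ω).injective).mp
        (hd.tower_top (A := Polynomial M))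
    obtain ⟨Q, hQ⟩ := IsIntegrallyClosed.isIntegral_iff.1 hint
    have hQ' : algebraMap (Polynomial M) Ω Q = d • s := by
      rw [IsScalarTower.algebraMap_apply (Polynomial M) Mw Ω, hQ]
      rfl
    have hQint : IsIntegral (Polynomial K₀) Q := by
      rw [← isIntegral_algebraMap_iff (R := Polynomial K₀) (A := Polynomial M) (B := Ω) hinjM, hQ']
      exact hd
    have hcoef : ∀ n, ((Q.coeff n : M) : Ω) ∈ perfectClosure F Ω := by
      intro n
      have h1 : IsAlgebraic K₀ ((Q.coeff n : M) : Ω) :=
        ((IsIntegral.coeff hQint n).map (M.val)).isAlgebraic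
      have h2 := algebraic_mem_perfectClosure hK₀ h1
      rw [mem_perfectClosure_iff_pow_mem (ringExpChar K₀)] at h2
      haveI : ExpChar F (ringExpChar K₀) := expChar_of_injective_algebraMap (algebraMap K₀ F).injective _
      rw [mem_perfectClosure_iff_pow_mem (ringExpChar K₀)]
      obtain ⟨m, a, ha⟩ := h2
      exact ⟨m, algebraMap K₀ F a, ha⟩
    have hwmem : w ∈ perfectClosure F Ω :=
      (perfectClosure F Ω).algebraMap_mem (IntermediateField.AdjoinSimple.gen K₀ w)
    have hQmem : Polynomial.aeval w Q ∈ perfectClosure F Ω := by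
      rw [Polynomial.aeval_eq_sum_range]
      refine sum_mem fun n _ => ?_
      rw [Algebra.smul_def]
      exact mul_mem (hcoef n) (pow_mem hwmem n)
    have hd' : algebraMap (Polynomial K₀) Ω d ≠ 0 := fun h0 => hd0 (hinjk (h0.trans (map_zero _).symm))
    have hdF : algebraMap (Polynomial K₀) Ω d ∈ perfectClosure F Ω := by
      rw [IsScalarTower.algebraMap_apply (Polynomial K₀) F Ω]
      exact (perfectClosure F Ω).algebraMap_mem _
    have hs' : s = (algebraMap (Polynomial K₀) Ω d)⁻¹ * Polynomial.aeval w Q := by
      rw [eq_inv_mul_iff_mul_eq₀ hd', ← Algebra.smul_def]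
      exact hQ'.symm
    rw [hs']
    exact mul_mem (inv_mem hdF) hQmem)
  rw [← hr]
  exact r.2

end Main

/-- Separability is transported along a compatible pair of field homomorphisms. -/
theorem isSeparable_map {F F' E E' : Type u} [Field F] [Field F'] [Field E] [Field E'] [Algebra F E]
    [Algebra F' E'] (φ : F →+* F') (τ : E →+* E')
    (h : ∀ a, τ (algebraMap F E a) = algebraMap F' E' (φ a)) {s : E} (hs : IsSeparable F s) :
    IsSeparable F' (τ s) := by
  refine Polynomial.Separable.of_dvd (Polynomial.Separable.map (f := φ) hs) (minpoly.dvd F' _ ?_)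
  rw [Polynomial.aeval_def, Polynomial.eval₂_map,
    show (algebraMap F' E').comp φ = τ.comp (algebraMap F E) from RingHom.ext fun a => (h a).symm,
    ← Polynomial.hom_eval₂, ← Polynomial.aeval_def, minpoly.aeval, map_zero]

theorem isAlgebraic_of_range {R A B : Type*} [CommRing R] [Field A] [Field B] [Algebra R A] [Algebra R B]
    [Algebra A B] (f : A →ₐ[R] B) (hf : ∀ a, f a = algebraMap A B a) {S : Subalgebra R B}
    (hle : S ≤ f.range) {t : B} (ht : IsAlgebraic S t) : IsAlgebraic A t := by
  obtain ⟨p, hp0, hp⟩ := ht.tower_top_of_subalgebra_le hle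
  obtain ⟨q, rfl⟩ := Polynomial.map_surjective f.rangeRestrict.toRingHom f.rangeRestrict_surjective p
  refine ⟨q, fun h => hp0 (by rw [h, Polynomial.map_zero]), ?_⟩
  rw [Polynomial.aeval_def, Polynomial.eval₂_map] at hp
  rw [Polynomial.aeval_def, show algebraMap A B = (algebraMap f.range B).comp f.rangeRestrict.toRingHom from
    RingHom.ext fun a => (hf a).symm]
  exact hp

theorem elim_comp_swap {α β γ : Type*} (a : α → γ) (b : β → γ) : Sum.elim a b ∘ Sum.swap = Sum.elim b a := by
  funext i; cases i <;> rfl

/-- A change of the last two variables preserves algebraic independence. -/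
theorem algebraicIndependent_change {k Ω : Type u} [Field k] [Field Ω] [Algebra k Ω] {σ : Type}
    {x : σ → Ω} {ξ y : Ω} (h : AlgebraicIndependent k (Sum.elim x ![ξ, y])) {a b : k} (hab : a ≠ b) :
    AlgebraicIndependent k (Sum.elim x ![ξ + a • y, ξ + b • y]) := by
  have h' : (b - a) ≠ 0 := sub_ne_zero.mpr hab.symm
  let ψ : MvPolynomial (σ ⊕ Fin 2) k →ₐ[k] MvPolynomial (σ ⊕ Fin 2) k :=
    MvPolynomial.aeval (Sum.elim (fun i => MvPolynomial.X (Sum.inl i))
      ![MvPolynomial.X (Sum.inr 0) + a • MvPolynomial.X (Sum.inr 1),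
        MvPolynomial.X (Sum.inr 0) + b • MvPolynomial.X (Sum.inr 1)])
  let φ : MvPolynomial (σ ⊕ Fin 2) k →ₐ[k] MvPolynomial (σ ⊕ Fin 2) k :=
    MvPolynomial.aeval (Sum.elim (fun i => MvPolynomial.X (Sum.inl i))
      ![(b * (b - a)⁻¹) • MvPolynomial.X (Sum.inr 0) - (a * (b - a)⁻¹) • MvPolynomial.X (Sum.inr 1),
        (b - a)⁻¹ • MvPolynomial.X (Sum.inr 1) - (b - a)⁻¹ • MvPolynomial.X (Sum.inr 0)])
  have hφψ : φ.comp ψ = AlgHom.id k _ := by
    apply MvPolynomial.algHom_ext
    intro i
    rcases i with i | j
    · simp [φ, ψ]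
    · fin_cases j
      · simp [φ, ψ, smul_sub, smul_smul]
        match_scalars <;> field_simp
      · simp [φ, ψ, smul_sub, smul_smul]
        match_scalars <;> field_simp
  have e : MvPolynomial.aeval (Sum.elim x ![ξ + a • y, ξ + b • y]) =
      (MvPolynomial.aeval (Sum.elim x ![ξ, y])).comp ψ := by
    apply MvPolynomial.algHom_ext
    intro i
    rcases i with i | j
    · simp [ψ]
    · fin_cases j <;> simp [ψ]
  show Function.Injective (MvPolynomial.aeval (Sum.elim x ![ξ + a • y, ξ + b • y]))
  rw [e, AlgHom.coe_comp]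
  refine Function.Injective.comp (show Function.Injective _ from h) fun p q hpq => ?_
  exact (AlgHom.congr_fun hφψ p).symm.trans ((congrArg φ hpq).trans (AlgHom.congr_fun hφψ q))

/-- The theorem over an infinite field. -/
theorem sepClosedIn_section_of_infinite {k K Ω : Type u} [Field k] [Infinite k] [Field K] [Field Ω]
    [Algebra k K] [Algebra k Ω] [Algebra K Ω] [IsScalarTower k K Ω] {σ : Type} [Fintype σ] {x : σ → Ω}
    (hx : AlgebraicIndependent K x) (hgen : IntermediateField.adjoin K (Set.range x) = ⊤)
    (hfg : (⊤ : IntermediateField k K).FG) (hsep : SepClosedIn k K) (g : σ → K) (c : σ → k)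
    (hind : AlgebraicIndependent k
      (Sum.elim x ![∑ i, algebraMap K Ω (g i) * x i, algebraMap K Ω (∑ i, c i • g i)])) :
    SepClosedIn (IntermediateField.adjoin (IntermediateField.adjoin k (Set.range x))
      {∑ i, algebraMap K Ω (g i) * x i}) Ω := by
  classical
  set ξ := ∑ i, algebraMap K Ω (g i) * x i
  set y := algebraMap K Ω (∑ i, c i • g i)
  let K₀ := IntermediateField.adjoin k (Set.range x)
  have hK₀ : SepClosedIn K₀ Ω := sepClosedIn_adjoin x hx hgen hsep
  intro s hs
  -- the translations
  choose τ hτ using fun a : k => exists_translation x hx hgen (fun i => algebraMap k K (a * c i))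
  have hτy : ∀ a, τ a y = y := fun a => (τ a).commutes _
  have hτx : ∀ a i, τ a (x i) = x i + algebraMap k Ω (a * c i) := fun a i => by
    rw [hτ, ← IsScalarTower.algebraMap_apply]
  have hτξ : ∀ a, τ a ξ = ξ + a • y := by
    intro a
    simp only [ξ, y, map_sum, map_mul, AlgEquiv.commutes, hτ, mul_add, Finset.sum_add_distrib,
      Finset.smul_sum]
    congr 1
    refine Finset.sum_congr rfl fun i _ => ?_
    simp only [Algebra.smul_def, IsScalarTower.algebraMap_apply k K Ω, map_mul]
    ring
  have hxmem : ∀ i, x i ∈ K₀ := fun i => IntermediateField.subset_adjoin k _ ⟨i, rfl⟩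
  let F : k → IntermediateField K₀ Ω := fun a => IntermediateField.adjoin K₀ {ξ + a • y}
  let F0 := IntermediateField.adjoin K₀ {ξ}
  have hFk : ∀ z : Ω, (IntermediateField.adjoin K₀ {z}).restrictScalars k =
      IntermediateField.adjoin k (Set.range x ∪ {z}) := fun z => IntermediateField.adjoin_adjoin_left k _ _
  have hmapF : ∀ a, (F0.restrictScalars k).map ((τ a).restrictScalars k).toAlgHom =
      (F a).restrictScalars k := by
    intro a
    rw [hFk, hFk, IntermediateField.adjoin_map]
    refine le_antisymm (IntermediateField.adjoin_le_iff.mpr ?_) (IntermediateField.adjoin_le_iff.mpr ?_)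
    · rintro _ ⟨z, hz | hz, rfl⟩
      · obtain ⟨i, rfl⟩ := hz
        show τ a (x i) ∈ _
        rw [hτx]
        exact add_mem (IntermediateField.subset_adjoin k _ (Or.inl ⟨i, rfl⟩))
          ((IntermediateField.adjoin k _).algebraMap_mem _)
      · rw [Set.mem_singleton_iff.mp hz]
        show τ a ξ ∈ _
        rw [hτξ]
        exact IntermediateField.subset_adjoin k _ (Or.inr rfl)
    · rintro z (hz | hz)
      · obtain ⟨i, rfl⟩ := hz
        have h1 : τ a (x i) ∈ IntermediateField.adjoin k (((τ a).restrictScalars k).toAlgHom '' (Set.range x ∪ {ξ})) :=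
          IntermediateField.subset_adjoin k _ ⟨x i, Or.inl ⟨i, rfl⟩, rfl⟩
        have h2 := sub_mem h1 ((IntermediateField.adjoin k _).algebraMap_mem (a * c i))
        rwa [hτx, add_sub_cancel_right] at h2
      · rw [Set.mem_singleton_iff.mp hz, ← hτξ]
        exact IntermediateField.subset_adjoin k _ ⟨ξ, Or.inr rfl, rfl⟩
  have hsepa : ∀ a, IsSeparable (F a) (τ a s) := fun a =>
    isSeparable_map (F := F0) (F' := F a)
      { toFun := fun z => ⟨τ a z.1, show τ a z.1 ∈ (F a).restrictScalars k from
          (hmapF a).le ⟨z.1, z.2, rfl⟩⟩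
        map_one' := Subtype.ext (map_one (τ a))
        map_mul' := fun u v => Subtype.ext (map_mul (τ a) u.1 v.1)
        map_zero' := Subtype.ext (map_zero (τ a))
        map_add' := fun u v => Subtype.ext (map_add (τ a) u.1 v.1) }
      (τ a).toRingEquiv.toRingHom (fun z => rfl) hs
  -- finitely many fields over `k(x, ξ, y)`
  let G := IntermediateField.adjoin K₀ ({ξ, y} : Set Ω)
  have hFG : ∀ a, F a ≤ G := fun a => by
    refine IntermediateField.adjoin_le_iff.mpr (Set.singleton_subset_iff.mpr (add_mem
      (IntermediateField.subset_adjoin K₀ _ (Or.inl rfl)) ?_))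
    rw [Algebra.smul_def, IsScalarTower.algebraMap_apply k K₀ Ω]
    exact mul_mem (G.algebraMap_mem _) (IntermediateField.subset_adjoin K₀ _ (Or.inr rfl))
  have hsepG : ∀ a, IsSeparable G (τ a s) := fun a =>
    isSeparable_map (F := F a) (F' := G)
      { toFun := fun z => ⟨z.1, hFG a z.2⟩
        map_one' := rfl, map_mul' := fun _ _ => rfl, map_zero' := rfl, map_add' := fun _ _ => rfl }
      (RingHom.id Ω) (fun z => rfl) (hsepa a)
  let Es := separableClosure G Ω
  have hfin : Finite (IntermediateField G Es) := by
    haveI : Algebra.EssFiniteType k K := IntermediateField.fg_top_iff.1 hfg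
    haveI : Algebra.EssFiniteType K Ω := IntermediateField.fg_top_iff.1
      (hgen ▸ IntermediateField.fg_adjoin_of_finite (Set.finite_range x))
    haveI : Algebra.EssFiniteType k Ω := Algebra.EssFiniteType.comp k K Ω
    haveI : IsScalarTower k G Ω := IsScalarTower.of_algebraMap_eq fun r => rfl
    haveI : Algebra.EssFiniteType G Ω := Algebra.EssFiniteType.of_comp k G Ω
    haveI := S6333.result (k := G) (K := Ω) (IntermediateField.fg_top (F := G) (E := Ω))
    have hsc : separableClosure G Ω ≤ algebraicClosure G Ω := fun u hu =>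
      mem_algebraicClosure_iff.2 (mem_separableClosure_iff.1 hu).isIntegral.isAlgebraic
    haveI : FiniteDimensional G Es :=
      FiniteDimensional.of_injective (IntermediateField.inclusion hsc).toLinearMap
        (IntermediateField.inclusion_injective hsc)
    exact Field.finite_intermediateField_of_exists_primitive_element G Es
      (Field.exists_primitive_element G Es)
  obtain ⟨a, b, hab, he⟩ := Finite.exists_ne_map_eq_of_infinite fun a : k =>
    IntermediateField.adjoin G {(⟨τ a s, mem_separableClosure_iff.2 (hsepG a)⟩ : Es)}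
  have hbmem : τ b s ∈ IntermediateField.adjoin G {τ a s} := by
    have h1 : (⟨τ b s, mem_separableClosure_iff.2 (hsepG b)⟩ : Es) ∈
        IntermediateField.adjoin G {(⟨τ a s, mem_separableClosure_iff.2 (hsepG a)⟩ : Es)} := by
      rw [he]
      exact IntermediateField.mem_adjoin_simple_self G _
    have h2 : τ b s ∈ (IntermediateField.adjoin G
        {(⟨τ a s, mem_separableClosure_iff.2 (hsepG a)⟩ : Es)}).map Es.val := ⟨_, h1, rfl⟩
    rw [IntermediateField.adjoin_map, Set.image_singleton] at h2
    exact h2
  -- the transcendence of `ξ + b y`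
  let z := ξ + a • y
  let w := ξ + b • y
  have hind' := algebraicIndependent_change hind hab
  have hzw : AlgebraicIndependent K₀ ![z, w] := by
    rw [IntermediateField.algebraicIndependent_adjoin_iff]
    refine (AlgebraicIndependent.sumElim_iff.mp ?_).2
    have := hind'.comp Sum.swap Sum.swap_leftInverse.injective
    convert this using 1
    ext i; cases i <;> rfl
  have hwz : Transcendental (IntermediateField.adjoin K₀ {z}) w := by
    rw [IntermediateField.transcendental_adjoin_iff]
    have h1 := hzw.transcendental_adjoin (s := {0}) (i := 1) (by simp)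
    have e : (![z, w] '' {0}) = ({z} : Set Ω) := by simp
    rw [e] at h1
    exact h1
  let Fz := IntermediateField.adjoin K₀ {z}
  let M' := IntermediateField.adjoin Fz {τ a s}
  let M := M'.restrictScalars K₀
  have hwM : Transcendental M w := by
    haveI : Algebra.IsAlgebraic Fz M' := IntermediateField.isAlgebraic_adjoin fun u hu => by
      rw [Set.mem_singleton_iff.mp hu]
      exact (hsepa a).isIntegral
    exact (Transcendental.extendScalars M' hwz :)
  have hle : (IntermediateField.adjoin G {τ a s}).restrictScalars K₀ ≤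
      (IntermediateField.adjoin M {w}).restrictScalars K₀ := by
    rw [IntermediateField.adjoin_adjoin_left K₀]
    refine IntermediateField.adjoin_le_iff.mpr ?_
    have hz' : z ∈ M := show z ∈ M' from M'.algebraMap_mem (IntermediateField.AdjoinSimple.gen K₀ z)
    have hsa : τ a s ∈ M := IntermediateField.mem_adjoin_simple_self Fz _
    have hzN : z ∈ IntermediateField.adjoin M {w} := (IntermediateField.adjoin M {w}).algebraMap_mem ⟨z, hz'⟩
    have hwN : w ∈ IntermediateField.adjoin M {w} := IntermediateField.mem_adjoin_simple_self M w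
    have hkN : ∀ r : k, algebraMap k Ω r ∈ IntermediateField.adjoin M {w} := fun r =>
      (IntermediateField.adjoin M {w}).algebraMap_mem
        (⟨algebraMap k Ω r, by
          rw [IsScalarTower.algebraMap_apply k K₀ Ω]; exact M.algebraMap_mem _⟩ : M)
    have hyN : y ∈ IntermediateField.adjoin M {w} := by
      have h1 : y = algebraMap k Ω (b - a)⁻¹ * (w - z) := by
        have h2 : w - z = (b - a) • y := by simp only [z, w, sub_smul]; abel
        rw [h2, ← Algebra.smul_def, inv_smul_smul₀ (sub_ne_zero.mpr hab.symm)]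
      rw [h1]
      exact mul_mem (hkN _) (sub_mem hwN hzN)
    rintro u ((rfl | rfl) | rfl)
    · have : ξ = z - algebraMap k Ω a * y := by simp only [z, Algebra.smul_def]; abel
      show ξ ∈ IntermediateField.adjoin M {w}
      rw [this]
      exact sub_mem hzN (mul_mem (hkN _) hyN)
    · exact hyN
    · exact (IntermediateField.adjoin M {w}).algebraMap_mem ⟨τ a s, hsa⟩
  have hsb := mem_of_mem_adjoin_transcendental hK₀ M w hwM (τ b s) (hsepa b) (hle hbmem)
  obtain ⟨u, hu, he'⟩ := (hmapF b).ge hsb
  exact ⟨⟨s, by rwa [← (τ b).injective he']⟩, rfl⟩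

set_option backward.isDefEq.respectTransparency false in
attribute [local instance] Curv2.resAlgebra in
open CategoryTheory AlgebraicGeometry in
/-- The converse of `geometricallyIrreducible_spec_field`. -/
theorem sepClosedIn_of_geometricallyIrreducible (L κ : Type u) [Field L] [Field κ] [Algebra L κ]
    (hgi : GeometricallyIrreducible (Spec.map (CommRingCat.ofHom (algebraMap L κ)))) :
    SepClosedIn L κ := by
  let W := Spec (CommRingCat.of κ)
  letI : W.Over (Spec (CommRingCat.of L)) := ⟨Spec.map (CommRingCat.ofHom (algebraMap L κ))⟩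
  haveI : IrreducibleSpace W := inferInstanceAs (IrreducibleSpace (PrimeSpectrum κ))
  let p := genericPoint W
  obtain ⟨ψ, hψ⟩ := Spec.map_surjective (W.fromSpecResidueField p)
  have hcomp : ψ.hom.comp (algebraMap L κ) = Curv2.resMap L W p := by
    have h1 := GeomConn5.spec_resMap (k := L) p
    rw [← hψ] at h1
    have h2 : Spec.map ψ ≫ Spec.map (CommRingCat.ofHom (algebraMap L κ)) = _ := h1
    rw [← Spec.map_comp] at h2
    exact congrArg CommRingCat.Hom.hom (Spec.map_injective h2)
  let e : κ →ₐ[L] W.residueField p :=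
    { toRingHom := ψ.hom, commutes' := fun r => RingHom.congr_fun hcomp r }
  intro a ha
  obtain ⟨r, hr⟩ := (GeomField.geometricallyIrreducible_iff_separable (k := L) (X := W)).1 hgi (e a) (by
    unfold IsSeparable at ha ⊢
    rwa [minpoly.algHom_eq e e.toRingHom.injective a])
  exact ⟨r, e.toRingHom.injective ((e.commutes r).trans hr)⟩

theorem sepClosedIn_section {k K Ω : Type u} [Field k] [Field K] [Field Ω]
    [Algebra k K] [Algebra k Ω] [Algebra K Ω] [IsScalarTower k K Ω] {σ : Type} [Fintype σ] {x : σ → Ω}
    (hx : AlgebraicIndependent K x) (hgen : IntermediateField.adjoin K (Set.range x) = ⊤)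
    (hfg : (⊤ : IntermediateField k K).FG) (hsep : SepClosedIn k K) (g : σ → K) (c : σ → k)
    (hind : AlgebraicIndependent k
      (Sum.elim x ![∑ i, algebraMap K Ω (g i) * x i, algebraMap K Ω (∑ i, c i • g i)])) :
    SepClosedIn (IntermediateField.adjoin (IntermediateField.adjoin k (Set.range x))
      {∑ i, algebraMap K Ω (g i) * x i}) Ω := by
  classical
  set ξ := ∑ i, algebraMap K Ω (g i) * x i
  let F := IntermediateField.adjoin (IntermediateField.adjoin k (Set.range x)) {ξ}
  intro s hs
  -- adjoin one variable `T`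
  let Ω1 := RatFunc Ω
  let T : Ω1 := RatFunc.X
  have hT : Transcendental Ω T := RatFunc.transcendental_X
  let ι : Ω →ₐ[K] Ω1 := IsScalarTower.toAlgHom K Ω Ω1
  let x' : σ → Ω1 := fun i => ι (x i)
  let K1 : IntermediateField K Ω1 := IntermediateField.adjoin K {T}
  let T1 : K1 := IntermediateField.AdjoinSimple.gen K T
  have hTK : Transcendental K T := hT.restrictScalars (algebraMap K Ω).injective
  have hxT : AlgebraicIndependent K (fun _ : Unit => T1) := by
    refine AlgebraicIndependent.of_comp K1.val ?_
    exact algebraicIndependent_unique_type_iff.2 hTK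
  have hgenT : IntermediateField.adjoin K (Set.range (fun _ : Unit => T1)) = ⊤ := by
    apply IntermediateField.map_injective K1.val
    rw [IntermediateField.adjoin_map, ← AlgHom.fieldRange_eq_map, IntermediateField.fieldRange_val,
      Set.range_const, Set.image_singleton]
    rfl
  let k1 : IntermediateField k K1 := IntermediateField.adjoin k (Set.range (fun _ : Unit => T1))
  have hsep1 : SepClosedIn k1 K1 := sepClosedIn_adjoin _ hxT hgenT hsep
  have hTk1 : T1 ∈ k1 := IntermediateField.subset_adjoin k _ ⟨(), rfl⟩
  haveI : Infinite k1 := by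
    have hT1 : Transcendental k (⟨T1, hTk1⟩ : k1) := fun h =>
      (hTK.restrictScalars (algebraMap k K).injective) ((h.algHom k1.val).algHom (K1.val.restrictScalars k))
    exact Infinite.of_injective _ (transcendental_iff_injective.1 hT1)
  have hfg1 : (⊤ : IntermediateField k1 K1).FG := by
    haveI : Algebra.EssFiniteType k K := IntermediateField.fg_top_iff.1 hfg
    haveI : Algebra.EssFiniteType K K1 := IntermediateField.fg_top_iff.1
      (hgenT ▸ IntermediateField.fg_adjoin_of_finite (Set.finite_range _))
    haveI : Algebra.EssFiniteType k K1 := Algebra.EssFiniteType.comp k K K1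
    haveI : Algebra.EssFiniteType k1 K1 := Algebra.EssFiniteType.of_comp k k1 K1
    exact IntermediateField.fg_top k1 K1
  have hx1 : AlgebraicIndependent K1 x' := by
    have hall : AlgebraicIndependent K (Sum.elim (fun _ : Unit => T) x') := by
      refine AlgebraicIndependent.sumElim_iff.2 ⟨hx.map' (f := ι) ι.toRingHom.injective, ?_⟩
      refine algebraicIndependent_unique_type_iff.2 ?_
      have hle : Algebra.adjoin K (Set.range x') ≤ ι.range :=
        Algebra.adjoin_le (Set.range_subset_iff.2 fun i => ⟨x i, rfl⟩)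
      exact fun halg => hT (isAlgebraic_of_range ι (fun _ => rfl) hle halg)
    rw [IntermediateField.algebraicIndependent_adjoin_iff]
    have := hall.comp Sum.swap Sum.swap_leftInverse.injective
    rw [elim_comp_swap] at this
    have h2 := (AlgebraicIndependent.sumElim_iff.1 this).2
    rwa [Set.range_const] at h2
  have hgen1 : IntermediateField.adjoin K1 (Set.range x') = ⊤ := by
    apply IntermediateField.restrictScalars_injective K
    rw [IntermediateField.restrictScalars_top, IntermediateField.adjoin_adjoin_left]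
    refine top_unique fun u _ => ?_
    set L := IntermediateField.adjoin K ({T} ∪ Set.range x')
    have hΩ : ∀ w : Ω, ι w ∈ L := fun w => by
      have h1 : w ∈ IntermediateField.adjoin K (Set.range x) := hgen ▸ trivial
      have h2 : IntermediateField.adjoin K (Set.range x) ≤ L.comap ι :=
        IntermediateField.adjoin_le_iff.2 (Set.range_subset_iff.2 fun i =>
          IntermediateField.subset_adjoin K _ (Or.inr ⟨i, rfl⟩))
      exact h2 h1
    have hpoly : ∀ P : Polynomial Ω, algebraMap (Polynomial Ω) Ω1 P ∈ L := by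
      intro P
      induction P using Polynomial.induction_on' with
      | add P Q hP hQ => rw [map_add]; exact add_mem hP hQ
      | monomial n w =>
        rw [← Polynomial.C_mul_X_pow_eq_monomial, map_mul, map_pow, RatFunc.algebraMap_C, RatFunc.algebraMap_X]
        exact mul_mem (hΩ w) (pow_mem (show RatFunc.X ∈ L from IntermediateField.subset_adjoin K _ (Or.inl rfl)) n)
    rw [← RatFunc.num_div_denom u]
    exact div_mem (hpoly _) (hpoly _)
  have hξ : ι ξ = ∑ i, algebraMap K1 Ω1 (algebraMap K K1 (g i)) * x' i := by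
    simp only [ξ, map_sum, map_mul, AlgHom.commutes, x']
    rfl
  have hind1 : AlgebraicIndependent k1 (Sum.elim x'
      ![∑ i, algebraMap K1 Ω1 (algebraMap K K1 (g i)) * x' i,
        algebraMap K1 Ω1 (∑ i, algebraMap k k1 (c i) • algebraMap K K1 (g i))]) := by
    let fam := Sum.elim x' ![ι ξ, ι (algebraMap K Ω (∑ i, c i • g i))]
    have hfam : AlgebraicIndependent k fam := by
      have h1 := hind.map' (f := ι.restrictScalars k) ι.toRingHom.injective
      convert h1 using 1
      ext i
      rcases i with i | j
      · rfl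
      · fin_cases j <;> rfl
    have hall : AlgebraicIndependent k (Sum.elim (fun _ : Unit => T) fam) := by
      refine AlgebraicIndependent.sumElim_iff.2 ⟨hfam, algebraicIndependent_unique_type_iff.2 ?_⟩
      have hle : Algebra.adjoin k (Set.range fam) ≤ (ι.restrictScalars k).range :=
        Algebra.adjoin_le (Set.range_subset_iff.2 fun i => by
          rcases i with i | j
          · exact ⟨x i, rfl⟩
          · fin_cases j <;> exact ⟨_, rfl⟩)
      exact fun halg => hT (isAlgebraic_of_range (ι.restrictScalars k) (fun _ => rfl) hle halg)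
    have h2 : AlgebraicIndependent (IntermediateField.adjoin k {T}) fam := by
      rw [IntermediateField.algebraicIndependent_adjoin_iff]
      have := hall.comp Sum.swap Sum.swap_leftInverse.injective
      rw [elim_comp_swap] at this
      have h2 := (AlgebraicIndependent.sumElim_iff.1 this).2
      rwa [Set.range_const] at h2
    have hmap : k1.map (K1.val.restrictScalars k) = IntermediateField.adjoin k {T} := by
      rw [IntermediateField.adjoin_map, Set.range_const, Set.image_singleton]
      rfl
    letI : Algebra k1 (IntermediateField.adjoin k {T}) :=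
      (({ toFun := fun z => ⟨(z.1 : Ω1), hmap.le ⟨z.1, z.2, rfl⟩⟩
          map_one' := rfl, map_mul' := fun _ _ => rfl, map_zero' := rfl, map_add' := fun _ _ => rfl } :
        k1 →+* IntermediateField.adjoin k {T})).toAlgebra
    haveI : IsScalarTower k1 (IntermediateField.adjoin k {T}) Ω1 := IsScalarTower.of_algebraMap_eq fun z => rfl
    have h3 := h2.restrictScalars (R := k1) (algebraMap k1 _).injective
    convert h3 using 1
    ext i
    rcases i with i | j
    · rfl
    · fin_cases j
      · exact hξ.symm
      · show _ = ι (algebraMap K Ω (∑ i, c i • g i))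
        simp only [Sum.elim_inr, Matrix.cons_val, map_sum, Algebra.smul_def, map_mul, AlgHom.commutes]
        refine Finset.sum_congr rfl fun i _ => ?_
        congr 1
        haveI : IsScalarTower k K1 Ω1 := IsScalarTower.of_algebraMap_eq fun r => rfl
        rw [← IsScalarTower.algebraMap_apply k k1 K1, ← IsScalarTower.algebraMap_apply k K1 Ω1,
          ← IsScalarTower.algebraMap_apply k K Ω1]
  have hinf := sepClosedIn_section_of_infinite hx1 hgen1 hfg1 hsep1
    (fun i => algebraMap K K1 (g i)) (fun i => algebraMap k k1 (c i)) hind1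
  set F1 := IntermediateField.adjoin (IntermediateField.adjoin k1 (Set.range x'))
    {∑ i, algebraMap K1 Ω1 (algebraMap K K1 (g i)) * x' i}
  -- `F` maps into `F1`
  have hkF1 : ∀ r : k, algebraMap k Ω1 r ∈ F1 := fun r => by
    have h : algebraMap k Ω1 r = algebraMap k1 Ω1 (algebraMap k k1 r) := rfl
    rw [h]
    exact (F1.restrictScalars k1).algebraMap_mem _
  have hxF1 : ∀ i, x' i ∈ F1 := fun i =>
    F1.algebraMap_mem (⟨x' i, IntermediateField.subset_adjoin k1 _ ⟨i, rfl⟩⟩ : IntermediateField.adjoin k1 (Set.range x'))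
  have hFle : F.restrictScalars k ≤
      ((Subfield.toIntermediateField F1.toSubfield hkF1).comap (ι.restrictScalars k)) := by
    rw [IntermediateField.adjoin_adjoin_left]
    refine IntermediateField.adjoin_le_iff.2 ?_
    rintro z (⟨i, rfl⟩ | rfl)
    · exact hxF1 i
    · show ι ξ ∈ F1
      rw [hξ]
      exact IntermediateField.mem_adjoin_simple_self _ _
  obtain ⟨⟨u, hu⟩, hus⟩ := hinf (ι s) (isSeparable_map (F := F) (F' := F1)
    { toFun := fun z => ⟨ι z.1, hFle z.2⟩
      map_one' := Subtype.ext (map_one ι), map_mul' := fun a b => Subtype.ext (map_mul ι a.1 b.1)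
      map_zero' := Subtype.ext (map_zero ι), map_add' := fun a b => Subtype.ext (map_add ι a.1 b.1) }
    ι.toRingHom (fun z => rfl) hs)
  -- `F1` is contained in `F(T)`
  let N := IntermediateField.adjoin F {T}
  have hkN : ∀ r : k, algebraMap k Ω1 r ∈ N := fun r => by
    have h : algebraMap k Ω1 r = algebraMap F Ω1 ⟨algebraMap k Ω r, (F.restrictScalars k).algebraMap_mem r⟩ :=
      IsScalarTower.algebraMap_apply k Ω Ω1 r
    rw [h]
    exact N.algebraMap_mem _
  have hk1N : ∀ r : k1, algebraMap k1 Ω1 r ∈ N := fun r => by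
    have : k1 ≤ (Subfield.toIntermediateField N.toSubfield hkN).comap (K1.val.restrictScalars k) :=
      IntermediateField.adjoin_le_iff.2 (Set.range_subset_iff.2 fun _ => IntermediateField.mem_adjoin_simple_self F T)
    exact this r.2
  have hxN : ∀ i, x' i ∈ N := fun i => N.algebraMap_mem
    (⟨x i, (IntermediateField.adjoin _ _).algebraMap_mem
      (⟨x i, IntermediateField.subset_adjoin k _ ⟨i, rfl⟩⟩ : IntermediateField.adjoin k (Set.range x))⟩ : F)
  have hξN : ι ξ ∈ N := N.algebraMap_mem (⟨ξ, IntermediateField.mem_adjoin_simple_self _ _⟩ : F)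
  have hF1N : F1.restrictScalars k1 ≤ Subfield.toIntermediateField N.toSubfield hk1N := by
    rw [IntermediateField.adjoin_adjoin_left]
    refine IntermediateField.adjoin_le_iff.2 ?_
    rintro z (⟨i, rfl⟩ | rfl)
    · exact hxN i
    · exact hξ ▸ hξN
  have hsN : ι s ∈ N := hF1N (show ι s ∈ F1 from hus ▸ hu)
  -- compare leading coefficients
  obtain ⟨P, Q, hPQ⟩ := (IntermediateField.mem_adjoin_simple_iff F (ι s)).1 hsN
  by_cases hs0 : ι s = 0
  · exact ⟨0, by rw [map_zero]; exact ι.toRingHom.injective (hs0.trans (map_zero ι).symm) |>.symm⟩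
  have hQ0 : Polynomial.aeval T Q ≠ 0 := fun h => hs0 (by rw [hPQ, h, div_zero])
  have hQ : Q ≠ 0 := fun h => hQ0 (by rw [h, map_zero])
  have hev : ∀ R : Polynomial F, Polynomial.aeval T R = Polynomial.aeval T (R.map (algebraMap F Ω)) :=
    fun R => (Polynomial.aeval_map_algebraMap Ω T R).symm
  have heq : P.map (algebraMap F Ω) = Polynomial.C s * Q.map (algebraMap F Ω) := by
    apply transcendental_iff_injective.1 hT
    rw [map_mul, Polynomial.aeval_C, ← hev, ← hev]
    show _ = ι s * _
    rw [hPQ, div_mul_cancel₀ _ hQ0]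
  have hco : algebraMap F Ω (P.coeff Q.natDegree) = s * algebraMap F Ω Q.leadingCoeff := by
    rw [← Polynomial.coeff_map, heq, Polynomial.coeff_C_mul, Polynomial.coeff_map]
    rfl
  exact ⟨P.coeff Q.natDegree / Q.leadingCoeff, by
    rw [map_div₀, hco, mul_div_assoc, div_self (fun h => hQ (Polynomial.leadingCoeff_eq_zero.1
      ((algebraMap F Ω).injective (h.trans (map_zero _).symm)))), mul_one]⟩

end Groth.Agent.GeomLinSection
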